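import Mathlib
import Groth.Prelude.Def_RegImm
import Groth.Agent.QRegBC.Basic
import Groth.Agent.S5802
import Groth.Agent.KFlatLib.Ring.FourTerm
import Groth.Agent.QCoh.FlatOver

/-! Powers of an ideal generated by a transversally regular sequence. -/

set_option autoImplicit false
set_option linter.style.haveILetI false

universe u

namespace Groth.Agent.TransReg5071

variable {A B : Type u} [CommRing A] [CommRing B] [Algebra A B] {rs : List B}

theorem flat_quot_pow (hrs : RegImm.IsTransRegularSeq A B rs) (n : ℕ) :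
    Module.Flat A (B ⧸ Ideal.ofList rs ^ n) := by
  have hspan : Ideal.span (Set.range rs.get) = Ideal.ofList rs := by
    rw [Ideal.ofList]; congr 1; ext x; simp [List.mem_iff_get]
  haveI : Module.Flat A (B ⧸ Ideal.span (Set.range rs.get)) := by
    rw [hspan]
    have h := hrs.2 rs.length le_rfl
    rwa [List.take_length] at h
  rw [← hspan]
  exact QRegBC.flat_pow rs.get (Groth.Agent.S5802.result B rs.length rs.get (by rw [List.ofFn_get]; exact hrs.1)) n

theorem flat_self (hrs : RegImm.IsTransRegularSeq A B rs) : Module.Flat A B := by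
  have h := hrs.2 0 (Nat.zero_le _)
  rw [List.take_zero, Ideal.ofList_nil] at h
  exact Module.Flat.of_linearEquiv (R := A) ((AlgEquiv.quotientBot A B).toLinearEquiv).symm

theorem flat_restrictScalars (M : Type u) [AddCommGroup M] [Module B M] [Module A M] [IsScalarTower A B M]
    [Module.Flat A M] : Module.Flat A (RestrictScalars A B M) :=
  Module.Flat.of_linearEquiv (R := A)
    ({ RestrictScalars.addEquiv A B M with
        map_smul' := fun a x => by
          exact (RestrictScalars.addEquiv_map_smul (R := A) (S := B) (M := M) a x).trans (algebraMap_smul B a _) } :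
      RestrictScalars A B M ≃ₗ[A] M)

theorem flat_piece (hrs : RegImm.IsTransRegularSeq A B rs) {n m : ℕ} (hnm : n ≤ m) :
    Module.Flat A (↥(Ideal.ofList rs ^ n) ⧸ (Submodule.comap (Ideal.ofList rs ^ n).subtype (Ideal.ofList rs ^ m))) := by
  haveI := flat_quot_pow hrs n
  haveI := flat_quot_pow hrs m
  let J := Ideal.ofList rs
  let f : (↥(J ^ n) ⧸ (Submodule.comap (J ^ n).subtype (J ^ m))) →ₗ[B] B ⧸ J ^ m :=
    Submodule.mapQ _ _ (J ^ n).subtype le_rfl
  refine KFlatLib.flat_of_flat_quotient (f := f.restrictScalars A)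
    (g := (Submodule.factor (Ideal.pow_le_pow_right hnm : J ^ m ≤ J ^ n)).restrictScalars A) ?_ ?_
    (Submodule.factor_surjective (Ideal.pow_le_pow_right hnm))
  · refine (injective_iff_map_eq_zero f).2 fun y hy => ?_
    obtain ⟨y, rfl⟩ := Submodule.Quotient.mk_surjective _ y
    have hy' : Submodule.Quotient.mk (p := J ^ m) (y : B) = 0 := hy
    exact (Submodule.Quotient.mk_eq_zero _).2 (show (y : B) ∈ J ^ m from (Submodule.Quotient.mk_eq_zero _).1 hy')
  · intro z
    obtain ⟨z, rfl⟩ := Submodule.Quotient.mk_surjective _ z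
    refine ⟨fun hz => ⟨Submodule.Quotient.mk ⟨z, (Submodule.Quotient.mk_eq_zero _).1 hz⟩, rfl⟩, ?_⟩
    rintro ⟨y, hy⟩
    obtain ⟨y, rfl⟩ := Submodule.Quotient.mk_surjective _ y
    rw [← hy]
    exact (Submodule.Quotient.mk_eq_zero _).2 y.2

theorem flat_pow (hrs : RegImm.IsTransRegularSeq A B rs) (n : ℕ) : Module.Flat A ↥(Ideal.ofList rs ^ n) := by
  haveI := flat_self hrs
  haveI := flat_quot_pow hrs n
  refine KFlatLib.flat_of_flat_quotient (f := (Ideal.ofList rs ^ n).subtype.restrictScalars A)
    (g := (Submodule.mkQ (Ideal.ofList rs ^ n)).restrictScalars A) Subtype.val_injective ?_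
    (Submodule.mkQ_surjective _)
  intro z
  exact (LinearMap.exact_subtype_mkQ (Ideal.ofList rs ^ n)) z

end Groth.Agent.TransReg5071
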